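import Cfsg.Agent.H718.NBIH

/-!
# More than one `p`-block from a component of the centraliser of an element of order `p` (helper788)
-/

set_option autoImplicit false

namespace Cfsg.Agent.H788.NB

open Cfsg Cfsg.Agent.H7.NBp Cfsg.Agent.H718.NBIH Subgroup

theorem not_comm_of_perfect {G : Type*} [Group G] [Nontrivial G] (h : commutator G = ⊤) :
    ¬ IsMulCommutative G := by
  intro hc
  have h1 : commutator G = ⊥ := by
    rw [commutator_def, Subgroup.commutator_eq_bot_iff_le_centralizer]
    intro a _
    rw [Subgroup.mem_centralizer_iff]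
    intro b _
    exact hc.is_comm.comm b a
  rw [h1] at h
  exact bot_ne_top h

theorem perfect_of_surjective {G H : Type*} [Group G] [Group H] (h : commutator G = ⊤) (f : G →* H)
    (hf : Function.Surjective f) : commutator H = ⊤ := by
  have h1 := congrArg (Subgroup.map f) h
  rw [commutator_def, Subgroup.map_commutator, ← MonoidHom.range_eq_map, MonoidHom.range_eq_top.2 hf] at h1
  exact h1

/-- **The criterion.** -/
theorem nb_of_cent {p : ℕ} [hp : Fact p.Prime] {G : Type*} [Group G] [Finite G] [IsSimpleGroup G]
    (ih : IH p (Nat.card G)) {x : G} (hx : orderOf x = p) {K : Subgroup G}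
    (hc : ∀ u ∈ K, x * u = u * x) (hn : ∀ y : G, y * x = x * y → ∀ u ∈ K, y * u * y⁻¹ ∈ K)
    {S : Type*} [Group S] [Finite S] [IsSimpleGroup S] (hS : ¬ IsMulCommutative S) (f : K →* S)
    (hf : Function.Surjective f) (hker : f.ker ≤ center K) : NB p G := by
  have hna : ¬ IsMulCommutative G := by
    intro h
    apply hS
    refine ⟨⟨fun a b => ?_⟩⟩
    obtain ⟨a, rfl⟩ := hf a
    obtain ⟨b, rfl⟩ := hf b
    rw [← map_mul, ← map_mul]
    congr 1
    exact Subtype.ext (h.is_comm.comm _ _)
  have hK : K ≠ ⊤ := by
    intro hK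
    have h1 : x ∈ center G := by
      rw [Subgroup.mem_center_iff]
      intro u
      exact (hc u (by rw [hK]; exact Subgroup.mem_top _)).symm
    rcases (inferInstance : (center G).Normal).eq_bot_or_eq_top with h2 | h2
    · rw [h2, Subgroup.mem_bot] at h1
      rw [h1, orderOf_one] at hx
      exact hp.out.one_lt.ne hx
    · apply hna
      refine ⟨⟨fun a b => ?_⟩⟩
      have h3 : a ∈ center G := by rw [h2]; exact Subgroup.mem_top _
      exact (Subgroup.mem_center_iff.1 h3 b).symm
  have hcard : Nat.card S < Nat.card G := by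
    refine lt_of_le_of_lt (Nat.card_le_card_of_surjective f hf) ?_
    refine lt_of_le_of_ne (Subgroup.card_le_card_group K) fun h => hK ?_
    exact Subgroup.eq_top_of_card_eq K h
  have hcent : ∀ y : G, y ∈ centralizer ((zpowers x : Subgroup G) : Set G) ↔ y * x = x * y := by
    intro y
    constructor
    · intro h
      exact (Subgroup.mem_centralizer_iff.1 h x (mem_zpowers x)).symm
    · intro h
      rw [Subgroup.mem_centralizer_iff]
      rintro _ ⟨k, rfl⟩
      exact ((show Commute y x from h).zpow_right k).eq.symm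
  refine NB.of_cover (zpowers x) ?_ K ?_ ?_ f hf hker (ih.use hS hcard)
  · intro g
    refine ⟨1, ?_⟩
    rw [pow_one]
    apply Subtype.ext
    obtain ⟨k, hk⟩ := g.2
    have h1 : (g : G) ^ p = 1 := by
      have hk' : x ^ k = (g : G) := hk
      rw [← hk', ← zpow_natCast, ← zpow_mul, mul_comm, zpow_mul, zpow_natCast]
      rw [← hx, pow_orderOf_eq_one, one_zpow]
    exact h1
  · intro u hu
    rw [hcent]
    exact (hc u hu).symm
  · intro c hcc u hu
    exact hn c ((hcent c).1 hcc) u hu

end Cfsg.Agent.H788.NB
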