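import Cfsg.Agent.H788.NB.Fold
import Cfsg.Agent.H788.NB.Gen
import Cfsg.Agent.H280.ObTwE
import Cfsg.Agent.H868.KTwD4

/-!
# `³D₄(q)`, `p ∣ q² - 1` odd: more than one `p`-block (helper788, for S5003)
-/

set_option autoImplicit false
set_option linter.unusedSectionVars false

namespace Cfsg.Agent.H788.NB

open CoxeterSystem Cfsg Cfsg.Lie Cfsg.Agent.ChevalleyStructure Cfsg.Agent.ChevalleyStructure.Elts
  Cfsg.Agent.ChevalleyStructure.TwistedU
  Cfsg.Agent.ChevalleyStructure.CoxeterGeom Cfsg.Agent.Tits.Roots Cfsg.Agent.Tits.Core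
open Cfsg.Agent.Nodes.Reps Cfsg.Agent.Nodes.BNOf
  Cfsg.Agent.Nodes Cfsg.Agent.Nodes.RGDChev
  Cfsg.Agent.Nodes.RGDTwGen Cfsg.Agent.Nodes.RGDFold Cfsg.Agent.Nodes.RGDFoldSL Cfsg.Agent.Nodes.RGDTwCoord
open Cfsg.Agent.ChevalleyStructure.SL2Hom Cfsg.Agent.ChevalleyStructure.RootVec
open Cfsg.Agent.H92.ExcSL2 Cfsg.Agent.H818.StrP.UTab Cfsg.Agent.H818.StrP.UAct
open Cfsg.Agent.GpExc Cfsg.Agent.H7.NBp Cfsg.Agent.H718.NBIH

namespace TwD4

theorem hH : HiList chevD4 := by simp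

theorem hV : ∀ r < chevD4.nroots, V chevD4 RGDTwD4.J r 0 = rt chevD4 r (node chevD4) := by decide +kernel

theorem zero_check : ∀ r < chevD4.nroots, V chevD4 RGDTwD4.J r 0 = 0 →
    V chevD4 RGDTwD4.J r = sr 1 ∨ V chevD4 RGDTwD4.J r = -sr 1 := by decide +kernel

theorem sr1 : (sr 1 : Fin 2 → ℤ) 0 = 0 ∧ (-sr 1 : Fin 2 → ℤ) 0 = 0 := by decide +kernel

theorem top_eq : top chevD4 = 23 := by decide

section

variable {K : Type} [Field K] [Fintype K] {q : ℕ} {φ : K →+* K}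

/-- the fixed field -/
def F0 (φ : K →+* K) : Subfield K := φ.eqLocusField (RingHom.id K)

theorem mem_F0 (t : K) : t ∈ F0 φ ↔ φ t = t := Iff.rfl

/-- the long root `SL₂(q)` -/
theorem phi_mem (hφ : ∀ x, φ x = x ^ q) (g : SL2 ↥(F0 φ)) :
    phi (SL2All.good_of_mem chevD4 hH.inList (top chevD4) (top_lt hH)) K
      (Matrix.SpecialLinearGroup.map (F0 φ).subtype g) ∈ twistedD4 K q := by
  refine Rank.phi_mem hH.inList (top_lt hH) (F0 φ).subtype (fun t => ?_) (fun t => ?_) g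
  · have h1 := H868.KTwD4.x23_mem (K := K) (q := q) hφ (v := (F0 φ).subtype t) t.2
    rw [← H868.KTwD4.xG_eq] at h1
    exact h1
  · have h1 := H868.KTwD4.x0_mem (K := K) (q := q) hφ (v := (F0 φ).subtype t) t.2
    rw [← H868.KTwD4.xG_eq] at h1
    exact h1

theorem card_F0 (hφ : ∀ x, φ x = x ^ q) (hq : 1 < q) (hK : Fintype.card K = q ^ 3) [Fintype ↥(F0 φ)] :
    Fintype.card ↥(F0 φ) = q := by
  rw [← Nat.card_eq_fintype_card, ← FixedCard.card_fixed hq hK]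
  exact Nat.card_congr (Equiv.subtypeEquivRight fun t => by rw [mem_F0, hφ])

theorem nb_tor {p : ℕ} [hp : Fact p.Prime] (hp2 : p ≠ 2) (hq : IsPrimePow q) (hK : Fintype.card K = q ^ 3)
    (hpq : p ∣ q ^ 2 - 1) [IsSimpleGroup ↥(twistedD4 K q)] (ih : IH p (Nat.card ↥(twistedD4 K q))) :
    NB p ↥(twistedD4 K q) := by
  classical
  obtain ⟨φ, hφ⟩ := D4Fixed.exists_frob hq hK
  have hf : ∀ i, ∀ s ∈ Cfsg.Agent.Nodes.RGDTwNode.D4.rep i :: Cfsg.Agent.Nodes.RGDTwNode.D4.rest i, ∀ t : K,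
      ((Cfsg.Agent.Nodes.RGDTwD4.eps s : ℤ) : K) * φ t = φ t := fun i s hs t => by
    rw [Cfsg.Agent.Nodes.RGDTwNode.D4.eps_one i s hs, Int.cast_one, one_mul]
  have hq1 : 1 < q := hq.one_lt
  obtain ⟨r, hr, hcp⟩ : ∃ p : ℕ, p.Prime ∧ CharP K p := by
    obtain ⟨p, hcp⟩ := CharP.exists K
    exact ⟨p, CharP.char_is_prime K p, hcp⟩
  have : Fact r.Prime := ⟨hr⟩
  let cs : CoxeterSystem CoxeterMatrix.G₂ CoxeterMatrix.G₂.Group := CoxeterMatrix.G₂.toCoxeterSystem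
  have FG := Cfsg.Agent.Nodes.RGDTwD4.foldGrp (K := K) hφ (D4Fixed.twisted_le_fix hK hφ)
  have FD := Cfsg.Agent.Nodes.RGDTwD4.foldData
  have N := Cfsg.Agent.Nodes.RGDTwNode.D4.nodeOK
  have h := Cfsg.Agent.Nodes.RGDTwD4.isCartan
  have hT := Cfsg.Agent.Nodes.RGDTwD4.hp
  -- `p` is not the characteristic
  have hrK : r ∣ q := by
    have h1 : r ∣ Fintype.card K := by
      obtain ⟨n, -, hn⟩ := FiniteField.card K r
      rw [hn]
      exact dvd_pow_self r n.ne_zero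
    rw [hK] at h1
    exact hr.dvd_of_dvd_pow h1
  have hpr : (p : K) ≠ 0 := by
    intro h0
    have h1 : r ∣ p := (CharP.cast_eq_zero_iff K r p).1 h0
    have h2 : r = p := (Nat.prime_dvd_prime_iff_eq hr hp.out).1 h1
    have h3 : p ∣ q ^ 2 := (h2 ▸ hrK).trans (dvd_pow_self q two_ne_zero)
    have h4 : p ∣ 1 := by
      have h5 := Nat.dvd_sub h3 hpq
      have h6 : 0 < q ^ 2 := by positivity
      rwa [Nat.sub_sub_self h6] at h5
    exact hp.out.one_lt.ne' (Nat.dvd_one.1 h4)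
  -- the element of order `p`
  let _ : Fintype ↥(F0 φ) := Fintype.ofFinite _
  obtain ⟨g₀, hg₀⟩ := exists_order (F := ↥(F0 φ)) hp.out (by rw [card_F0 hφ hq1 hK]; exact hpq)
  set g : SL2 K := Matrix.SpecialLinearGroup.map (F0 φ).subtype g₀ with hg
  have hgo : orderOf g = p := by
    rw [hg, orderOf_injective _ (Rank.map_injective (F0 φ).subtype), hg₀]
  have hgp : g ^ p = 1 := by rw [← hgo]; exact pow_orderOf_eq_one g
  have hg1 : g ≠ 1 := fun h1 => by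
    rw [h1, orderOf_one] at hgo
    exact hp.out.one_lt.ne hgo
  let x : ↥(twistedD4 K q) := ⟨_, phi_mem hφ g₀⟩
  have hxo : orderOf x = p := by
    rw [← Subgroup.orderOf_coe]
    have h1 := orderOf_ph (F := K) hH.inList (top_lt hH) g (by rw [hgo]; exact hp.out.odd_of_ne_two hp2)
    rw [← Subgroup.orderOf_coe, hgo] at h1
    exact h1
  obtain ⟨h1, h2⟩ := norm_fold (hp := hT) FG cs h hH FD (k' := 0) hV hp.out hp2 hpr hgp hg1 (x := x) rfl
  -- the subgroup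
  have hsr1 := isRoot_sr cs h (1 : Fin 2)
  have hnsr1 : IsRoot cs h (-sr 1) := hsr1.neg
  have hsup : RGD.Sup (fun z => (R chevD4 hT K RGDTwD4.J (D4Fixed.sig φ) z).subgroupOf (twistedD4 K q))
      {a | IsRoot cs h a ∧ a 0 = 0} =
      (R chevD4 hT K RGDTwD4.J (D4Fixed.sig φ) (sr 1)).subgroupOf (twistedD4 K q) ⊔
      (R chevD4 hT K RGDTwD4.J (D4Fixed.sig φ) (-sr 1)).subgroupOf (twistedD4 K q) := by
    apply le_antisymm
    · refine RGD.Sup_le ?_
      rintro a ⟨ha, ha0⟩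
      obtain ⟨s, hs, rfl⟩ := (FD.isRoot_iff hT.checked (fun i r hr => wp_lt hT (RGDTwD4.J i) hr) a).1 ha
      rcases zero_check s hs ha0 with h3 | h3
      · rw [h3]; exact le_sup_left
      · rw [h3]; exact le_sup_right
    · refine sup_le ?_ ?_
      · exact RGD.le_Sup (X := fun z => (R chevD4 hT K RGDTwD4.J (D4Fixed.sig φ) z).subgroupOf (twistedD4 K q))
          (show sr 1 ∈ {a | IsRoot cs h a ∧ a 0 = 0} from ⟨hsr1, sr1.1⟩)
      · exact RGD.le_Sup (X := fun z => (R chevD4 hT K RGDTwD4.J (D4Fixed.sig φ) z).subgroupOf (twistedD4 K q))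
          (show -sr 1 ∈ {a | IsRoot cs h a ∧ a 0 = 0} from ⟨hnsr1, sr1.2⟩)
  have hrange := H280.ObTwE.range_eq FG N hf 1 cs h FD r
  rw [hsup, ← hrange] at h1 h2
  -- `SL₂(q³)`
  have hφ3 : ∀ x : K, φ^[3] x = x := fun t => by
    show φ (φ (φ t)) = t
    rw [hφ, hφ, hφ, ← pow_mul, ← pow_mul]
    have : q * (q * q) = q ^ 3 := by ring
    rw [this, ← hK]
    exact FiniteField.pow_card t
  let E := Fx φ ((Cfsg.Agent.Nodes.RGDTwNode.D4.rest 1).length + 1)
  have htop : ∀ x : K, x ∈ E := fun x => mem_Fx.2 (hφ3 x)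
  let _ : Fintype E := Fintype.ofFinite _
  have hcardE : Fintype.card E = q ^ 3 := by
    rw [← hK]; exact Fintype.card_congr (Equiv.subtypeUnivEquiv htop)
  have hE3 : 3 < Fintype.card E := by
    rw [hcardE]
    calc 3 < 2 ^ 3 := by norm_num
      _ ≤ q ^ 3 := Nat.pow_le_pow_left hq1 3
  have hPh : ∃ g, Phi FG (N 1) (hf 1) g ≠ 1 := by
    refine ⟨up 1, fun h1 => ?_⟩
    have h2 : Phi FG (N 1) (hf 1) (up (1 : E)) = Phi FG (N 1) (hf 1) (up (0 : E)) := by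
      have : (up (0 : E) : Matrix.SpecialLinearGroup (Fin 2) E) = 1 := by
        apply Subtype.ext
        ext i j
        fin_cases i <;> fin_cases j <;> rfl
      rw [this, map_one]; exact h1
    exact one_ne_zero (Phi_up_injective FG (N 1) (hf 1) h2)
  obtain ⟨g', hg'⟩ := hPh
  obtain ⟨f, hf1, hf2⟩ := H280.ObTorus.exists_psl hE3 (Phi FG (N 1) (hf 1)) g' hg'
  have hs := Cfsg.Agent.TwoFusion.SLTwoFacts.isSimpleGroup_psl hE3
  have hpf := Cfsg.Agent.TwoFusion.SLTwoFacts.commutator_eq_top hE3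
  have hS : ¬ IsMulCommutative (Matrix.ProjectiveSpecialLinearGroup (Fin 2) E) :=
    not_comm_of_perfect (perfect_of_surjective hpf
      (QuotientGroup.mk' (Subgroup.center (Matrix.SpecialLinearGroup (Fin 2) E))) (QuotientGroup.mk'_surjective _))
  exact nb_of_cent ih hxo h1 h2 hS f hf1 hf2

end

end TwD4

end Cfsg.Agent.H788.NB
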