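import Cfsg.Agent.H788.NB.Fold
import Cfsg.Agent.H788.NB.Gen
import Cfsg.Agent.GenExc.TwE
import Cfsg.Agent.GpExc.TwNode
import Cfsg.Agent.KFacts.TwESix.Dat
import Cfsg.Agent.ETable.ExcTwE6

/-!
# `²E₆(q)`, `p ∣ q² - 1` odd: more than one `p`-block (helper788, for S5003)
-/

set_option autoImplicit false
set_option linter.unusedSectionVars false

namespace Cfsg.Agent.H788.NB

open CoxeterSystem Cfsg Cfsg.Lie Cfsg.Agent.ChevalleyStructure Cfsg.Agent.ChevalleyStructure.Elts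
  Cfsg.Agent.ChevalleyStructure.TwistedU Cfsg.Agent.ChevalleyStructure.TwistedFix
  Cfsg.Agent.ChevalleyStructure.CoxeterGeom Cfsg.Agent.Tits.Roots Cfsg.Agent.Tits.Core
open Cfsg.Agent.Nodes.Reps Cfsg.Agent.Nodes.BNOf
  Cfsg.Agent.Nodes Cfsg.Agent.Nodes.RGDChev Cfsg.Agent.Nodes.Sub
  Cfsg.Agent.Nodes.RGDTwGen Cfsg.Agent.Nodes.RGDFold Cfsg.Agent.Nodes.RGDTwE6
open Cfsg.Agent.ChevalleyStructure.SL2Hom Cfsg.Agent.ChevalleyStructure.RootVec
open Cfsg.Agent.H92.ExcSL2 Cfsg.Agent.H818.StrP.UTab Cfsg.Agent.H818.StrP.UAct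
open Cfsg.Agent.GpExc Cfsg.Agent.H7.NBp Cfsg.Agent.H718.NBIH Cfsg.Agent.GenExc
open scoped commutatorElement

namespace TwE6

theorem hH : HiList chevE6 := by simp

theorem hV : ∀ r < chevE6.nroots, V chevE6 J r 0 = rt chevE6 r (node chevE6) := by decide +kernel

theorem top_rho : TwistedE6Sigma.rho (top chevE6) = top chevE6 ∧
    TwistedE6Sigma.rho (chevE6.neg (top chevE6)) = chevE6.neg (top chevE6) := by decide +kernel

section

variable {K : Type} [Field K] [Fintype K] {q : ℕ} {φ : K →+* K}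

/-- the fixed field -/
def F0 (φ : K →+* K) : Subfield K := φ.eqLocusField (RingHom.id K)

theorem mem_F0 (t : K) : t ∈ F0 φ ↔ φ t = t := Iff.rfl

/-- the long root `SL₂(q)` -/
theorem phi_mem (hφ : ∀ x, φ x = x ^ q) (g : SL2 ↥(F0 φ)) :
    phi (SL2All.good_of_mem chevE6 hH.inList (top chevE6) (top_lt hH)) K
      (Matrix.SpecialLinearGroup.map (F0 φ).subtype g) ∈ twistedE6 K q := by
  have hm : (-1 : K) ^ q = -1 := by rw [← hφ, map_neg, map_one]
  refine Rank.phi_mem hH.inList (top_lt hH) (F0 φ).subtype (fun t => ?_) (fun t => ?_) g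
  · exact ETable.Exc.X_mem hm (top_lt hH) top_rho.1 (by rw [← hφ]; exact t.2)
  · exact ETable.Exc.X_mem hm (RootVec.neg_lt hH.checked (top_lt hH)) top_rho.2 (by rw [← hφ]; exact t.2)

theorem card_F0 (hφ : ∀ x, φ x = x ^ q) (hq : 1 < q) (hK : Fintype.card K = q ^ 2) [Fintype ↥(F0 φ)] :
    Fintype.card ↥(F0 φ) = q := by
  rw [← Nat.card_eq_fintype_card, ← FixedCard.card_fixed hq hK]
  exact Nat.card_congr (Equiv.subtypeEquivRight fun t => by rw [mem_F0, hφ])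

/-- `α₁ = -α₂ + (α₁ + α₂)` -/
theorem two_check : Cfsg.Agent.KFacts.TwESix.Comb.bf (-sr 2) (-sr 2) = 2 ∧
    Cfsg.Agent.KFacts.TwESix.Comb.bf (sr 1 + sr 2) (sr 1 + sr 2) = 2 ∧
    Cfsg.Agent.KFacts.TwESix.Comb.bf (-sr 2) (sr 1 + sr 2) = 0 ∧
    (sr 1 + sr 2 : Fin 4 → ℤ) ∈ Cfsg.Agent.KFacts.TwESix.Comb.rts ∧
    (-sr 2 + (sr 1 + sr 2) : Fin 4 → ℤ) = sr 1 ∧ (sr 1 + sr 2 : Fin 4 → ℤ) 0 = 0 := by decide +kernel

/-- perfectness for `q = 2` -/
theorem perf_two (hφ : ∀ x, φ x = x ^ q) (hqq : ∀ t : K, (t ^ q) ^ q = t) (hq : q = 2) (hK : Fintype.card K = q ^ 2)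
    {W : Type*} [Group W] (cs : CoxeterSystem CoxeterMatrix.F₄ W) [CharP K 2] :
    ∀ x ∈ LR cs RGDTwE6.isCartan TwE.f3, X φ q x ≤
      ⁅HL cs RGDTwE6.isCartan (X φ q) TwE.f3, HL cs RGDTwE6.isCartan (X φ q) TwE.f3⁆ := by
  have : Finite W := Cfsg.Agent.KFacts.TwESix.Comb.finiteW cs
  have h2 : (2 : K) = 0 := by exact_mod_cast CharP.cast_eq_zero K 2
  refine Levi.perf_of_simple TwE.f3 (rgd cs hφ hqq 2) (fun j => TwE.nn_mem_HL hφ hqq cs TwE.f3 j) fun j => ?_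
  -- an element of `K`
  obtain ⟨c, hc, hc2⟩ : ∃ c : K, c ≠ 0 ∧ c ^ 2 ≠ 1 := by
    by_contra hcon
    push Not at hcon
    classical
    have h5 : (Finset.univ : Finset K) ⊆ {0, 1} := by
      intro t _
      rw [Finset.mem_insert, Finset.mem_singleton]
      by_cases ht : t = 0
      · exact Or.inl ht
      · exact Or.inr (Rank.eq_one_of_sq h2 (hcon t ht))
    have h6 := Finset.card_le_card h5
    rw [Finset.card_univ, hK, hq, Finset.card_pair zero_ne_one] at h6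
    omega
  have hle : ∀ j : Fin 3, X φ q (sr (TwE.f3 j)) ≤ HL cs RGDTwE6.isCartan (X φ q) TwE.f3 ∧
      X φ q (-sr (TwE.f3 j)) ≤ HL cs RGDTwE6.isCartan (X φ q) TwE.f3 := fun j =>
    ⟨X_le_HL TwE.f3 (sr_mem_LR (cs := cs) (h := RGDTwE6.isCartan) TwE.f3 j),
      X_le_HL TwE.f3 (LR_neg TwE.f3 (sr_mem_LR (cs := cs) (h := RGDTwE6.isCartan) TwE.f3 j))⟩
  fin_cases j
  · -- the long node
    obtain ⟨t1, t2, t3, t4, t5, t6⟩ := two_check
    have hD := Cfsg.Agent.KFacts.TwESix.Dat.dat (K := K) cs hφ hqq hK (by omega)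
    have hs2 : IsRoot cs RGDTwE6.isCartan (-sr 2) := (isRoot_sr cs RGDTwE6.isCartan 2).neg
    have hs12 : IsRoot cs RGDTwE6.isCartan (sr 1 + sr 2) := (Cfsg.Agent.KFacts.TwESix.Comb.mem_rts cs).2 t4
    intro w hw
    have hw' : w ∈ X φ q (-sr 2 + (sr 1 + sr 2)) := by rw [t5]; exact hw
    obtain ⟨u, hu, v, hv, e⟩ := Cfsg.Agent.KFacts.TwESix.Facts.orth_surj hD hs2 hs12 t1 t2 t3 hw'
    rw [← e]
    refine Subgroup.commutator_mem_commutator ((hle 1).2 hu) (X_le_HL TwE.f3 ?_ hv)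
    rw [TwE.sub3.mem_LR]
    refine ⟨t4, fun k hk => ?_⟩
    rw [List.mem_singleton] at hk
    rw [hk]
    exact t6
  · have N := TwNode.nodePair hφ hqq TwE6BN.pair2 (by decide +kernel : (42 : ℕ) < chevE6.nroots)
      (by decide +kernel : (37 : ℕ) < chevE6.nroots) TwNode.so2
    exact N.perf hφ (hle 1).1 (hle 1).2 h2 hc hc2
  · have N := TwNode.nodePair hφ hqq TwE6BN.pair3 (by decide +kernel : (56 : ℕ) < chevE6.nroots)
      (by decide +kernel : (36 : ℕ) < chevE6.nroots) TwNode.so3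
    exact N.perf hφ (hle 2).1 (hle 2).2 h2 hc hc2

theorem isQuasisimple (hφ : ∀ x, φ x = x ^ q) (hqq : ∀ t : K, (t ^ q) ^ q = t) (hq : 1 < q)
    (hK : Fintype.card K = q ^ 2) {W : Type*} [Group W] (cs : CoxeterSystem CoxeterMatrix.F₄ W)
    (r : ℕ) [Fact r.Prime] [CharP K r] :
    IsQuasisimple ↥(HL cs RGDTwE6.isCartan (X φ q) TwE.f3) := by
  by_cases hq2 : q = 2
  · have : Finite W := Cfsg.Agent.KFacts.TwESix.Comb.finiteW cs
    have : CharP K 2 := by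
      have h1 : (r : ℕ) ∣ Fintype.card K := by
        obtain ⟨n, -, hn⟩ := FiniteField.card K r
        rw [hn]
        exact dvd_pow_self r n.ne_zero
      have h2 : r = 2 := by
        rw [hK, hq2] at h1
        exact (Nat.prime_dvd_prime_iff_eq Fact.out Nat.prime_two).1 (Nat.Prime.dvd_of_dvd_pow Fact.out h1)
      rw [← h2]
      infer_instance
    exact isQuasisimple_HL TwE.f3 (rgd cs hφ hqq 2) (TwE.nn_mem_HL hφ hqq cs TwE.f3) TwE.sub3.conn'
      (fun a ha b hb => Cfsg.Agent.UGT.U2.FOne.TwESix.comm_T ha hb) (perf_two hφ hqq hq2 hK cs)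
  · exact TwE.sub3.isQuasisimple hφ hqq cs r (by omega) hK TwE.perf3

theorem nb_tor {p : ℕ} [hp : Fact p.Prime] (hp2 : p ≠ 2) (hq : IsPrimePow q) (hK : Fintype.card K = q ^ 2)
    (hpq : p ∣ q ^ 2 - 1) [IsSimpleGroup ↥(twistedE6 K q)] (ih : IH p (Nat.card ↥(twistedE6 K q))) :
    NB p ↥(twistedE6 K q) := by
  classical
  obtain ⟨φ, hφ, hqq⟩ := TwE6Basic.exists_frob hq hK
  have hq1 : 1 < q := hq.one_lt
  obtain ⟨r, hr, hcp⟩ : ∃ p : ℕ, p.Prime ∧ CharP K p := by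
    obtain ⟨p, hcp⟩ := CharP.exists K
    exact ⟨p, CharP.char_is_prime K p, hcp⟩
  have : Fact r.Prime := ⟨hr⟩
  let cs : CoxeterSystem CoxeterMatrix.F₄ CoxeterMatrix.F₄.Group := CoxeterMatrix.F₄.toCoxeterSystem
  have FG := Cfsg.Agent.Nodes.RGDTwE6.foldGrp (K := K) hφ hqq
  have FD := Cfsg.Agent.Nodes.RGDTwE6.foldData
  have h := Cfsg.Agent.Nodes.RGDTwE6.isCartan
  have hT := Cfsg.Agent.Nodes.RGDTwE6.hp
  -- `p` is not the characteristic
  have hrK : r ∣ q := by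
    have h1 : r ∣ Fintype.card K := by
      obtain ⟨n, -, hn⟩ := FiniteField.card K r
      rw [hn]
      exact dvd_pow_self r n.ne_zero
    rw [hK] at h1
    exact hr.dvd_of_dvd_pow h1
  have hpr : (p : K) ≠ 0 := by
    intro h0
    have h1 : r ∣ p := (CharP.cast_eq_zero_iff K r p).1 h0
    have h2 : r = p := (Nat.prime_dvd_prime_iff_eq hr hp.out).1 h1
    have h3 : p ∣ q ^ 2 := (h2 ▸ hrK).trans (dvd_pow_self q two_ne_zero)
    have h4 : p ∣ 1 := by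
      have h5 := Nat.dvd_sub h3 hpq
      have h6 : 0 < q ^ 2 := by positivity
      rwa [Nat.sub_sub_self h6] at h5
    exact hp.out.one_lt.ne' (Nat.dvd_one.1 h4)
  -- the element of order `p`
  let _ : Fintype ↥(F0 φ) := Fintype.ofFinite _
  obtain ⟨g₀, hg₀⟩ := exists_order (F := ↥(F0 φ)) hp.out (by rw [card_F0 hφ hq1 hK]; exact hpq)
  set g : SL2 K := Matrix.SpecialLinearGroup.map (F0 φ).subtype g₀ with hg
  have hgo : orderOf g = p := by
    rw [hg, orderOf_injective _ (Rank.map_injective (F0 φ).subtype), hg₀]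
  have hgp : g ^ p = 1 := by rw [← hgo]; exact pow_orderOf_eq_one g
  have hg1 : g ≠ 1 := fun h1 => by
    rw [h1, orderOf_one] at hgo
    exact hp.out.one_lt.ne hgo
  let x : ↥(twistedE6 K q) := ⟨_, phi_mem hφ g₀⟩
  have hxo : orderOf x = p := by
    rw [← Subgroup.orderOf_coe]
    have h1 := orderOf_ph (F := K) hH.inList (top_lt hH) g (by rw [hgo]; exact hp.out.odd_of_ne_two hp2)
    rw [← Subgroup.orderOf_coe, hgo] at h1
    exact h1
  obtain ⟨h1, h2⟩ := norm_fold (hp := hT) FG cs h hH FD (k' := 0) hV hp.out hp2 hpr hgp hg1 (x := x) rfl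
  have hHL : RGD.Sup (fun z => (R chevE6 hT K J (TwE6Basic.sg φ) z).subgroupOf (twistedE6 K q))
      {a | IsRoot cs h a ∧ a 0 = 0} = HL cs RGDTwE6.isCartan (X φ q) TwE.f3 := by
    unfold HL
    congr 1
    ext a
    rw [TwE.sub3.mem_LR]
    constructor
    · rintro ⟨h3, h4⟩
      refine ⟨(Cfsg.Agent.KFacts.TwESix.Comb.mem_rts cs).1 h3, fun k hk => ?_⟩
      rw [List.mem_singleton] at hk
      rw [hk]; exact h4
    · rintro ⟨h3, h4⟩
      exact ⟨(Cfsg.Agent.KFacts.TwESix.Comb.mem_rts cs).2 h3, h4 0 (List.mem_singleton.2 rfl)⟩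
  rw [hHL] at h1 h2
  have hQ := isQuasisimple hφ hqq hq1 hK cs r
  have hs : IsSimpleGroup (↥(HL cs RGDTwE6.isCartan (X φ q) TwE.f3) ⧸
      Subgroup.center ↥(HL cs RGDTwE6.isCartan (X φ q) TwE.f3)) := hQ.2
  have hS := not_comm_of_perfect (perfect_of_surjective hQ.1.commutator_eq_top
    (QuotientGroup.mk' (Subgroup.center ↥(HL cs RGDTwE6.isCartan (X φ q) TwE.f3)))
    (QuotientGroup.mk'_surjective _))
  exact nb_of_cent ih hxo h1 h2 hS (QuotientGroup.mk' _) (QuotientGroup.mk'_surjective _)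
    (by rw [QuotientGroup.ker_mk'])

end

end TwE6

end Cfsg.Agent.H788.NB
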