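import Cfsg.Agent.H788.NB.Norm
import Cfsg.Agent.GpExc.Field
import Cfsg.Agent.GpExc.Rank
import Cfsg.Agent.Nodes.RGDFold
import Cfsg.Agent.S0276

/-!
# Twisted groups inside Chevalley groups over a larger field (helper788)

* `toK ι : G →* D.group K'`, `ι : K →+* K'`, `G` a twisted group in `D.group K`;
* `comp` : compatibility with the functionals;
* `norm_fold` : `x ∈ G` equal to `φ_θ(g)`, `g ∈ SL₂(K)` of odd prime order `q ≠ char K`; then `x` centralises
  `⟨X a : a_{k'} = 0⟩` and `C_G(x)` normalises it.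
-/

set_option autoImplicit false
set_option linter.unusedSectionVars false

namespace Cfsg.Agent.H788.NB

open CoxeterSystem Cfsg Cfsg.Lie Cfsg.Agent.ChevalleyStructure Cfsg.Agent.ChevalleyStructure.Elts
  Cfsg.Agent.ChevalleyStructure.TwistedU
  Cfsg.Agent.ChevalleyStructure.CoxeterGeom Cfsg.Agent.Tits.Roots Cfsg.Agent.Tits.Core
  Cfsg.Agent.Tits.RootComb Cfsg.Agent.Nodes.Comb Cfsg.Agent.Nodes.Coroot
open Cfsg.Agent.Nodes.Reps Cfsg.Agent.Nodes.BNOf Cfsg.Agent.Nodes.Bruhat Cfsg.Agent.KFacts.RgdPar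
  Cfsg.Agent.Nodes Cfsg.Agent.Nodes.RGDChev Cfsg.Agent.KFacts.RgdChevCoord
  Cfsg.Agent.Nodes.RGDTwGen Cfsg.Agent.Nodes.RGDFold
open Cfsg.Agent.ChevalleyStructure.SL2Hom Cfsg.Agent.ChevalleyStructure.RootVec
open Cfsg.Agent.H92.ExcSL2 Cfsg.Agent.H818.StrP.UTab Cfsg.Agent.H818.StrP.UAct
open Cfsg.Agent.GpExc

universe u v

/-! ### elements of `SL₂(F)` -/

theorem exists_order {F : Type*} [Field F] [Fintype F] {p : ℕ} (hp : p.Prime) (hd : p ∣ Fintype.card F ^ 2 - 1) :
    ∃ g : Matrix.SpecialLinearGroup (Fin 2) F, orderOf g = p := by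
  have : Fact p.Prime := ⟨hp⟩
  have h1 : p ∣ Nat.card (Matrix.SpecialLinearGroup (Fin 2) F) := by
    rw [Cfsg.Agent.S0276.card_sl_two (F := F) rfl]
    exact hd.mul_left _
  exact exists_prime_orderOf_dvd_card' p h1

section Ext

/-- a finite extension with a primitive `q`-th root of unity -/
theorem exists_ext (K : Type) [Field K] [Finite K] {q : ℕ} (hq : q.Prime) (hqK : (q : K) ≠ 0) :
    ∃ (K' : Type) (_ : Field K') (_ : Finite K') (_ : K →+* K') (ζ : K'), IsPrimitiveRoot ζ q := by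
  have : NeZero q := ⟨hq.ne_zero⟩
  have : NeZero (q : K) := ⟨hqK⟩
  have h1 : FiniteDimensional K (CyclotomicField q K) := IsCyclotomicExtension.finiteDimensional {q} K _
  have h2 : Finite (CyclotomicField q K) := Module.finite_of_finite K
  exact ⟨CyclotomicField q K, inferInstance, h2, algebraMap K _, _, IsCyclotomicExtension.zeta_spec q K _⟩

end Ext

section Fold

variable {D : ChevalleyDatum} {l : ℕ} {M' : CoxeterMatrix (Fin l)} {hp : IsType D l M'} {K : Type} [Field K]
  {m : ℕ} {M : CoxeterMatrix (Fin m)} {A : Fin m → Fin m → ℤ}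
  {J : Fin m → List (Fin l)} {L : List (List ℕ)} {σ : GL D.Idx K →* GL D.Idx K} {ρ ρ' : ℕ → ℕ}
    {f : ℕ → K → K} {G : Subgroup (GL D.Idx K)}
  (FG : FoldGrp hp K J L σ ρ ρ' f G)

include FG in
theorem G_le_group : G ≤ D.group K := by
  have h1 : ∀ z, R D hp K J σ z ≤ D.group K := by
    intro z
    refine le_trans inf_le_left (rspan_le _ fun r _ t => xG_mem_group hp.inList r t)
  exact FG.gen.trans (iSup_le fun i => sup_le (h1 _) (h1 _))

variable {K' : Type} [Field K'] (ι : K →+* K')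

/-- the inclusion -/
noncomputable def toK : ↥G →* ↥(D.group K') :=
  (Field.emb hp.inList ι).comp (Subgroup.inclusion (G_le_group FG))

theorem coe_toK (g : ↥G) : ((toK FG ι g : ↥(D.group K')) : GL D.Idx K') = Field.glMap D ι (g : GL D.Idx K) := rfl

theorem toK_injective : Function.Injective (toK FG ι) :=
  (Field.emb_injective hp.inList ι).comp (Subgroup.inclusion_injective _)

theorem X_le {z : Fin m → ℤ} {H : Subgroup ↥(D.group K')}
    (hH : ∀ k < D.nroots, V D J k = z → XX D l K' (vec D l k) ≤ H) :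
    ((R D hp K J σ z).subgroupOf G).map (toK FG ι) ≤ H := by
  rintro _ ⟨g, hg, rfl⟩
  have h1 : rspan (xG (F := K) hp.inList) {k | k < D.nroots ∧ V D J k = z} ≤
      (H.map (D.group K').subtype).comap (Field.glMap D ι) := by
    refine rspan_le _ fun k hk t => ?_
    rw [Subgroup.mem_comap, Field.glMap_xG]
    refine ⟨⟨xG hp.inList k (ι t), xG_mem_group hp.inList k _⟩, hH k hk.1 hk.2 ?_, rfl⟩
    rw [Subgroup.mem_subgroupOf, XV_vec hp K' hk.1]
    exact xG_mem_rootSubgroup hp.inList k _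
  have h2 : (g : GL D.Idx K) ∈ rspan (xG (F := K) hp.inList) {k | k < D.nroots ∧ V D J k = z} := by
    have h3 : (g : GL D.Idx K) ∈ R D hp K J σ z := Subgroup.mem_subgroupOf.1 hg
    exact h3.1
  obtain ⟨g', hg', e⟩ := h1 h2
  have h3 : g' = toK FG ι g := Subtype.ext e
  rw [← h3]
  exact hg'

variable {W W' : Type*} [Group W] [Group W'] (cs' : CoxeterSystem M' W') (cs : CoxeterSystem M W) (h : IsCartan M A)

/-- **The compatibility of the root group data of `G` and `D.group K'`.** -/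
theorem comp (fn : (Fin l → ℤ) →+ ℤ) (fn' : (Fin m → ℤ) →+ ℤ)
    (hf : ∀ k < D.nroots, fn (vec D l k) = fn' (V D J k)) :
    Over.Comp cs' hp.isCartan (TT D K') (XX D l K') cs h ((D.diagonalSubgroup K ⊓ G).subgroupOf G)
      (fun z => (R D hp K J σ z).subgroupOf G) (toK FG ι) fn fn' where
  inj := toK_injective FG ι
  tor := by
    refine le_trans ?_ T_le_PS
    rintro _ ⟨g, hg, rfl⟩
    have h1 : (g : GL D.Idx K) ∈ D.diagonalSubgroup K := (Subgroup.mem_subgroupOf.1 hg).1
    rw [Subgroup.mem_subgroupOf, coe_toK]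
    exact Field.glMap_diagonal hp ι h1
  nonneg _ _ h0 := X_le FG ι fun k hk hV => X_le_PS (X := XX D l K')
    ⟨isRoot_vec hp cs' hk, by rw [hf k hk, hV]; exact h0⟩
  neg _ _ h0 := X_le FG ι fun k hk hV => RGD.le_Sup (X := XX D l K')
    (show vec D l k ∈ {x | IsRoot cs' hp.isCartan x ∧ fn x < 0} from
      ⟨isRoot_vec hp cs' hk, by rw [hf k hk, hV]; exact h0⟩)

include FG in
/-- **Centralisers of the elements of odd prime order in the long root `SL₂`.** -/
theorem norm_fold [Finite K] (hH : HiList D) (FD : FoldData D M A J L) {k' : Fin m}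
    (hV : ∀ r < D.nroots, V D J r k' = rt D r (node D)) {q : ℕ} (hq : q.Prime) (hq2 : q ≠ 2)
    (hqK : (q : K) ≠ 0) {g : SL2 K} (hg : g ^ q = 1) (hg1 : g ≠ 1) {x : ↥G}
    (hx : (x : GL D.Idx K) = phi (SL2All.good_of_mem D hp.inList (top D) (top_lt hH)) K g) :
    (∀ u ∈ RGD.Sup (fun z => (R D hp K J σ z).subgroupOf G) {a | IsRoot cs h a ∧ a k' = 0}, x * u = u * x) ∧
    ∀ y : ↥G, y * x = x * y → ∀ u ∈ RGD.Sup (fun z => (R D hp K J σ z).subgroupOf G) {a | IsRoot cs h a ∧ a k' = 0},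
      y * u * y⁻¹ ∈ RGD.Sup (fun z => (R D hp K J σ z).subgroupOf G) {a | IsRoot cs h a ∧ a k' = 0} := by
  obtain ⟨p, hpr, hcp⟩ : ∃ p : ℕ, p.Prime ∧ CharP K p := by
    obtain ⟨p, hcp⟩ := CharP.exists K
    exact ⟨p, CharP.char_is_prime K p, hcp⟩
  have : Fact p.Prime := ⟨hpr⟩
  let cs' : CoxeterSystem M' M'.Group := M'.toCoxeterSystem
  have : Finite M'.Group := RGDChev.finite_W hp cs'
  have : Finite W := Cfsg.Agent.Nodes.RGDFold.finite_W (hp := hp) cs h FD
  have R' := Cfsg.Agent.Nodes.RGDFold.rgd cs h FD FG p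
  have hGG := Cfsg.Agent.KFacts.RgdRigid.GG_eq_top (cs := cs) (h := h) (T := (D.diagonalSubgroup K ⊓ G).subgroupOf G)
    (X := fun z => (Cfsg.Agent.Nodes.RGDFold.R D hp K J σ z).subgroupOf G)
    (Cfsg.Agent.Nodes.RGDFold.G1_eq_top cs h FD FG p)
  obtain ⟨K', _, _, ι, ζ, hζ⟩ := exists_ext K hq hqK
  -- the image of `x`
  set g' : SL2 K' := Matrix.SpecialLinearGroup.map ι g with hg'
  have hinj := Rank.map_injective (F := K) (K := K') ι
  have hg'q : g' ^ q = 1 := by rw [hg', ← map_pow, hg, map_one]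
  have hg'1 : g' ≠ 1 := fun h1 => hg1 (hinj (by rw [map_one]; exact h1))
  have hphi : ∀ g : SL2 K, Field.glMap D ι (phi (SL2All.good_of_mem D hp.inList (top D) (top_lt hH)) K g) =
      phi (SL2All.good_of_mem D hp.inList (top D) (top_lt hH)) K' (Matrix.SpecialLinearGroup.map ι g) := by
    intro g
    have h1 : Subgroup.closure (Set.range (up (F := K)) ∪ Set.range (lo (F := K))) ≤
        MonoidHom.eqLocus ((Field.glMap D ι).comp (phi (SL2All.good_of_mem D hp.inList (top D) (top_lt hH)) K))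
          ((phi (SL2All.good_of_mem D hp.inList (top D) (top_lt hH)) K').comp
            (Matrix.SpecialLinearGroup.map ι)) := by
      rw [Subgroup.closure_le]
      rintro _ (⟨t, rfl⟩ | ⟨t, rfl⟩)
      · show Field.glMap D ι (phi (SL2All.good_of_mem D hp.inList (top D) (top_lt hH)) K (up t)) =
          phi (SL2All.good_of_mem D hp.inList (top D) (top_lt hH)) K' (Matrix.SpecialLinearGroup.map ι (up t))
        rw [Rank.map_up, phi_up hp.inList (top_lt hH), phi_up hp.inList (top_lt hH), Field.glMap_xG]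
      · show Field.glMap D ι (phi (SL2All.good_of_mem D hp.inList (top D) (top_lt hH)) K (lo t)) =
          phi (SL2All.good_of_mem D hp.inList (top D) (top_lt hH)) K' (Matrix.SpecialLinearGroup.map ι (lo t))
        rw [Rank.map_lo, phi_lo hp.inList (top_lt hH), phi_lo hp.inList (top_lt hH), Field.glMap_xG]
    exact h1 (mem_closure_SL2 g)
  have hxφ : toK FG ι x = pt hH g' := by
    apply Subtype.ext
    rw [coe_toK, hx, hphi]
    rfl
  have hVev : ∀ k < D.nroots, ev (nd hH hp) (vec D l k) = ev k' (V D J k) := by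
    intro k hk
    rw [ev_apply, ev_apply, hV k hk]
    rfl
  have hX : ∀ a, IsRoot cs h a → a k' = 0 →
      ((R D hp K J σ a).subgroupOf G).map (toK FG ι) ≤ RGD.Sup (XX D l K') (Om hp cs' hH) := by
    intro a _ h3
    refine X_le FG ι fun k hk hVk => RGD.le_Sup (X := XX D l K') ?_
    refine ⟨isRoot_vec hp cs' hk, ?_⟩
    have h4 := hVev k hk
    rw [ev_apply, ev_apply, hVk, h3] at h4
    exact h4
  constructor
  · intro u hu
    have h1 : RGD.Sup (fun z => (R D hp K J σ z).subgroupOf G) {a | IsRoot cs h a ∧ a k' = 0} ≤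
        (RGD.Sup (XX D l K') (Om hp cs' hH)).comap (toK FG ι) := by
      refine RGD.Sup_le fun a ha => ?_
      exact Subgroup.map_le_iff_le_comap.1 (hX a ha.1 ha.2)
    have h2 := pt_comm hH hp cs' g' _ (h1 hu)
    apply toK_injective FG ι
    rw [map_mul, map_mul, hxφ]
    exact h2
  · intro y hy
    exact norm_zero hH hp cs' R' hGG (comp FG ι cs' cs h _ _ hVev)
      (comp FG ι cs' cs h _ _ fun k hk => congrArg Neg.neg (hVev k hk)) hX hq hq2 hζ hg'q hg'1 hxφ hy

end Fold

end Cfsg.Agent.H788.NB
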