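import Cfsg.Agent.H818.StrP.UAct2
import Cfsg.Agent.GpExc.Over
import Cfsg.Agent.H92.ExcSL2
import Cfsg.Agent.KFacts.RgdRigid

/-!
# Centralizers of elements of odd prime order in the long root `SL₂`, all characteristics (helper788)

The version of helper75's `GpExc/Tab` (`Cent.norm_of_comm`, `Wit.norm_zero`) without assumption on the characteristic.

* `SLTwo.exists_conj` : `g ∈ SL₂(K)` of odd prime order `p`, `K ∋` primitive `p`-th root of unity ⟹ `g` is conjugate to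
  `diag (c, c⁻¹)`, `c ^ p = 1`, `c ≠ 1`;
* `norm_of_comm` : `D` one of `G2, D4, F4, E6, E7, E8`, `θ` the highest root: an element commuting with
  `ph θ g` normalises `⟨X b : ⟨b, θ^∨⟩ = 0⟩`;
* `norm_zero` : the same for a group `H → D.group K` with a compatible root group datum.
-/

set_option autoImplicit false
set_option linter.unusedSectionVars false

namespace Cfsg.Agent.H788.NB

open CoxeterSystem Cfsg Cfsg.Lie Cfsg.Agent.ChevalleyStructure Cfsg.Agent.ChevalleyStructure.Elts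
  Cfsg.Agent.ChevalleyStructure.CoxeterGeom Cfsg.Agent.Tits.Roots Cfsg.Agent.Tits.Core
  Cfsg.Agent.Tits.RootComb Cfsg.Agent.Nodes.Comb Cfsg.Agent.Nodes.Coroot
open Cfsg.Agent.Nodes.Reps Cfsg.Agent.Nodes.BNOf Cfsg.Agent.Nodes.Bruhat Cfsg.Agent.KFacts.RgdPar
  Cfsg.Agent.Nodes Cfsg.Agent.Nodes.RGDChev Cfsg.Agent.KFacts.RgdChevCoord
open Cfsg.Agent.ChevalleyStructure.SL2Hom Cfsg.Agent.ChevalleyStructure.RootVec
open Cfsg.Agent.H92.ExcSL2 Cfsg.Agent.H818.StrP.UTab Cfsg.Agent.H818.StrP.UAct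
open Cfsg.Agent.GpExc

universe u v

/-! ### `SL₂(K)` -/

namespace SLTwo

open Matrix

variable {K : Type*} [Field K]

/-- `diag(c, c⁻¹)` -/
def dg (c : Kˣ) : SpecialLinearGroup (Fin 2) K :=
  ⟨!![(c : K), 0; 0, ((c⁻¹ : Kˣ) : K)], by simp [Matrix.det_fin_two]⟩

theorem coe_dg (c : Kˣ) : ((dg c : SpecialLinearGroup (Fin 2) K) : Matrix (Fin 2) (Fin 2) K) =
    !![(c : K), 0; 0, ((c⁻¹ : Kˣ) : K)] := rfl

theorem dg_eq {K : Type u} [Field K] (c : Kˣ) : dg c = wel (c : K) c.ne_zero * wel (-1) (by simp) := by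
  apply Subtype.ext
  show !![(c : K), 0; 0, ((c⁻¹ : Kˣ) : K)] = !![0, (c : K); -(c : K)⁻¹, 0] * !![0, (-1 : K); -(-1 : K)⁻¹, 0]
  ext i j
  fin_cases i <;> fin_cases j <;> simp [Units.val_inv_eq_inv_val]

theorem exists_root {n : Type*} [Fintype n] [DecidableEq n] [Nonempty n] {p : ℕ} (hp : 0 < p) {ζ : K}
    (hζ : IsPrimitiveRoot ζ p) {g : Matrix n n K} (hg : g ^ p = 1) : ∃ c : K, c ^ p = 1 ∧ (g - c • 1).det = 0 := by
  let φ : Polynomial K →* K := (Matrix.detMonoidHom (n := n) (R := K)).comp (Polynomial.aeval g).toRingHom.toMonoidHom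
  have h1 : φ (Polynomial.X ^ p - 1) = 0 := by
    show ((Polynomial.aeval g) (Polynomial.X ^ p - 1 : Polynomial K)).det = 0
    rw [map_sub, map_pow, Polynomial.aeval_X, map_one, hg, sub_self]
    exact Matrix.det_zero
  rw [Polynomial.X_pow_sub_one_eq_prod hp hζ, map_prod, Finset.prod_eq_zero_iff] at h1
  obtain ⟨c, hc, h2⟩ := h1
  refine ⟨c, (Polynomial.mem_nthRootsFinset hp _).1 hc, ?_⟩
  have h3 : ((Polynomial.aeval g) (Polynomial.X - Polynomial.C c : Polynomial K)).det = 0 := h2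
  rw [map_sub, Polynomial.aeval_X, Polynomial.aeval_C, Algebra.algebraMap_eq_smul_one] at h3
  exact h3

/-- a matrix of determinant one with given first column -/
theorem exists_col {v : Fin 2 → K} (hv : v ≠ 0) :
    ∃ k : SpecialLinearGroup (Fin 2) K, ∀ i, (k : Matrix (Fin 2) (Fin 2) K) i 0 = v i := by
  by_cases h0 : v 0 = 0
  · have h1 : v 1 ≠ 0 := by
      intro h1
      apply hv
      funext i
      fin_cases i
      · exact h0
      · exact h1
    refine ⟨⟨!![v 0, -(v 1)⁻¹; v 1, 0], by simp [Matrix.det_fin_two, h1]⟩, fun i => ?_⟩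
    fin_cases i <;> simp
  · refine ⟨⟨!![v 0, 0; v 1, (v 0)⁻¹], by simp [Matrix.det_fin_two, h0]⟩, fun i => ?_⟩
    fin_cases i <;> simp

theorem pow_upper (s : K) (n : ℕ) : (!![(1 : K), s; 0, 1]) ^ n = !![(1 : K), n * s; 0, 1] := by
  induction n with
  | zero =>
    rw [pow_zero]
    ext i j
    fin_cases i <;> fin_cases j <;> simp
  | succ n ih =>
    rw [pow_succ, ih]
    ext i j
    fin_cases i <;> fin_cases j <;> simp [Matrix.mul_apply, Fin.sum_univ_two]
    ring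

theorem natCast_ne_zero {p : ℕ} (hp : p.Prime) {ζ : K} (hζ : IsPrimitiveRoot ζ p) : (p : K) ≠ 0 := by
  intro h0
  obtain ⟨r, hr⟩ := CharP.exists K
  have h1 : r ∣ p := (CharP.cast_eq_zero_iff K r p).1 h0
  rcases (Nat.dvd_prime hp).1 h1 with rfl | rfl
  · exact absurd rfl (CharP.char_ne_one K 1)
  · have : Fact r.Prime := ⟨hp⟩
    have h2 : (ζ - 1) ^ r = 0 := by
      rw [sub_pow_char, hζ.pow_eq_one, one_pow, sub_self]
    have h3 : ζ = 1 := sub_eq_zero.1 (pow_eq_zero_iff hp.ne_zero |>.1 h2)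
    exact hζ.ne_one hp.one_lt h3

/-- **Elements of odd prime order are diagonalizable.** -/
theorem exists_conj {p : ℕ} (hp : p.Prime) (hp2 : p ≠ 2) {ζ : K} (hζ : IsPrimitiveRoot ζ p)
    {g : SpecialLinearGroup (Fin 2) K} (hg : g ^ p = 1) (hg1 : g ≠ 1) :
    ∃ (k : SpecialLinearGroup (Fin 2) K) (c : Kˣ), c ^ p = 1 ∧ c ≠ 1 ∧ k * g * k⁻¹ = dg c := by
  have hodd : Odd p := hp.odd_of_ne_two hp2
  have hpK := natCast_ne_zero hp hζ
  have hgm : (g : Matrix (Fin 2) (Fin 2) K) ^ p = 1 := by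
    rw [← Matrix.SpecialLinearGroup.coe_pow, hg, Matrix.SpecialLinearGroup.coe_one]
  obtain ⟨c, hc, hdet⟩ := exists_root hp.pos hζ hgm
  have hc0 : c ≠ 0 := by
    rintro rfl
    rw [zero_pow hp.ne_zero] at hc
    exact zero_ne_one hc
  obtain ⟨v, hv, hgv⟩ := Matrix.exists_mulVec_eq_zero_iff.2 hdet
  have hgv' : (g : Matrix (Fin 2) (Fin 2) K) *ᵥ v = c • v := by
    rw [Matrix.sub_mulVec, Matrix.smul_mulVec, Matrix.one_mulVec, sub_eq_zero] at hgv
    exact hgv
  obtain ⟨k, hk⟩ := exists_col hv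
  -- `k⁻¹ g k` is upper triangular
  set m := k⁻¹ * g * k with hm
  have hkm : k * m = g * k := by rw [hm]; group
  have hcol : ∀ i, (k : Matrix (Fin 2) (Fin 2) K) i 0 * (m : Matrix (Fin 2) (Fin 2) K) 0 0 +
      (k : Matrix (Fin 2) (Fin 2) K) i 1 * (m : Matrix (Fin 2) (Fin 2) K) 1 0 = c * v i := by
    intro i
    have h3 := congrFun (congrFun (congrArg (fun z : SpecialLinearGroup (Fin 2) K => (z : Matrix (Fin 2) (Fin 2) K)) hkm)
      i) 0
    simp only [Matrix.SpecialLinearGroup.coe_mul, Matrix.mul_apply, Fin.sum_univ_two] at h3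
    rw [h3, hk 0, hk 1]
    have h4 := congrFun hgv' i
    rw [Matrix.mulVec, dotProduct, Fin.sum_univ_two] at h4
    simpa using h4
  have hdk : (k : Matrix (Fin 2) (Fin 2) K) 0 0 * (k : Matrix (Fin 2) (Fin 2) K) 1 1 -
      (k : Matrix (Fin 2) (Fin 2) K) 0 1 * (k : Matrix (Fin 2) (Fin 2) K) 1 0 = 1 := by
    rw [← Matrix.det_fin_two]; exact k.2
  have e0 := hcol 0
  have e1 := hcol 1
  rw [← hk 0] at e0
  rw [← hk 1] at e1
  set k00 := (k : Matrix (Fin 2) (Fin 2) K) 0 0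
  set k01 := (k : Matrix (Fin 2) (Fin 2) K) 0 1
  set k10 := (k : Matrix (Fin 2) (Fin 2) K) 1 0
  set k11 := (k : Matrix (Fin 2) (Fin 2) K) 1 1
  have m10 : (m : Matrix (Fin 2) (Fin 2) K) 1 0 = 0 := by
    linear_combination k00 * e1 - k10 * e0 - (m : Matrix (Fin 2) (Fin 2) K) 1 0 * hdk
  have m00 : (m : Matrix (Fin 2) (Fin 2) K) 0 0 = c := by
    linear_combination k11 * e0 - k01 * e1 - ((m : Matrix (Fin 2) (Fin 2) K) 0 0 - c) * hdk
  have hdm : (m : Matrix (Fin 2) (Fin 2) K) 0 0 * (m : Matrix (Fin 2) (Fin 2) K) 1 1 -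
      (m : Matrix (Fin 2) (Fin 2) K) 0 1 * (m : Matrix (Fin 2) (Fin 2) K) 1 0 = 1 := by
    rw [← Matrix.det_fin_two]; exact m.2
  have m11 : (m : Matrix (Fin 2) (Fin 2) K) 1 1 = c⁻¹ := by
    rw [m10, m00, mul_zero, sub_zero] at hdm
    exact eq_inv_of_mul_eq_one_right hdm
  set s := (m : Matrix (Fin 2) (Fin 2) K) 0 1 with hs
  have hmat : (m : Matrix (Fin 2) (Fin 2) K) = !![c, s; 0, c⁻¹] := by
    ext i j
    fin_cases i <;> fin_cases j
    · exact m00
    · rfl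
    · exact m10
    · exact m11
  have hmp : m ^ p = 1 := by
    have h3 : m = k⁻¹ * g * k⁻¹⁻¹ := by rw [hm, inv_inv]
    rw [h3, conj_pow, hg, mul_one, mul_inv_cancel]
  have hc2 : c ^ 2 = 1 → c = 1 := by
    intro h3
    obtain ⟨j, hj⟩ := hodd
    rw [hj, pow_succ, pow_mul, h3, one_pow, one_mul] at hc
    exact hc
  have hc1 : c ≠ 1 := by
    intro h3
    have h4 : !![(1 : K), s; 0, 1] ^ p = 1 := by
      have h5 := congrArg (fun z : SpecialLinearGroup (Fin 2) K => (z : Matrix (Fin 2) (Fin 2) K)) hmp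
      simp only [Matrix.SpecialLinearGroup.coe_pow, Matrix.SpecialLinearGroup.coe_one, hmat, h3, inv_one] at h5
      exact h5
    rw [pow_upper] at h4
    have h5 := congrFun (congrFun h4 0) 1
    have h6 : (p : K) * s = 0 := by simpa using h5
    have h7 : s = 0 := (mul_eq_zero.1 h6).resolve_left hpK
    have h8 : m = 1 := by
      apply Subtype.ext
      show (m : Matrix (Fin 2) (Fin 2) K) = 1
      rw [hmat, h7, h3]
      ext i j
      fin_cases i <;> fin_cases j <;> simp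
    apply hg1
    have h9 : g = k * m * k⁻¹ := by rw [hm]; group
    rw [h9, h8]; group
  have hcc : c⁻¹ - c ≠ 0 := by
    intro h3
    apply hc1
    apply hc2
    rw [sub_eq_zero] at h3
    rw [pow_two]
    nth_rewrite 1 [← h3]
    exact inv_mul_cancel₀ hc0
  set t : K := -s / (c⁻¹ - c) with ht
  refine ⟨up t * k⁻¹, Units.mk0 c hc0, ?_, ?_, ?_⟩
  · apply Units.ext
    rw [Units.val_pow_eq_pow_val, Units.val_mk0, hc, Units.val_one]
  · intro h3
    exact hc1 (by rw [← Units.val_mk0 hc0, h3, Units.val_one])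
  have h3 : up t * k⁻¹ * g * (up t * k⁻¹)⁻¹ = up t * m * (up t)⁻¹ := by rw [hm]; group
  rw [h3, mul_inv_eq_iff_eq_mul]
  clear_value m
  apply Subtype.ext
  have h4 : t * (c⁻¹ - c) = -s := by rw [ht]; exact div_mul_cancel₀ _ hcc
  have h5 : ((up t * m : SpecialLinearGroup (Fin 2) K) : Matrix (Fin 2) (Fin 2) K) =
      !![(1 : K), t; 0, 1] * !![c, s; 0, c⁻¹] := by
    rw [Matrix.SpecialLinearGroup.coe_mul, hmat]; rfl
  have h6 : ((dg (Units.mk0 c hc0) * up t : SpecialLinearGroup (Fin 2) K) : Matrix (Fin 2) (Fin 2) K) =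
      !![c, 0; 0, c⁻¹] * !![1, t; 0, 1] := by
    rw [Matrix.SpecialLinearGroup.coe_mul, coe_dg]; rfl
  refine h5.trans (Eq.trans ?_ h6.symm)
  ext i j
  fin_cases i <;> fin_cases j
  · simp [Matrix.mul_apply, Fin.sum_univ_two]
  · simp only [Matrix.mul_apply, Fin.sum_univ_two]
    simp
    linear_combination h4
  · simp [Matrix.mul_apply, Fin.sum_univ_two]
  · simp [Matrix.mul_apply, Fin.sum_univ_two]

end SLTwo

/-! ### normal form -/

section Norm

variable {I W Y : Type*} [Fintype I] [DecidableEq I] [Group W] [Group Y] {M : CoxeterMatrix I}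
variable {cs : CoxeterSystem M W} {A : I → I → ℤ} {h : IsCartan M A}
  {p : ℕ} {T : Subgroup Y} {n : I → Y} {X : (I → ℤ) → Subgroup Y}

/-- **`C(S)` normalises the subgroup generated by the root groups centralised by `S ⊆ T`.** -/
theorem conj_mem_sup [Finite W] (R : RGD cs h p T n X) {S : Set Y} (hS : S ⊆ T) {Ω : Set (I → ℤ)}
    (hΩ : ∀ x ∈ Ω, IsRoot cs h x) (h1 : ∀ x ∈ Ω, X x ≤ Subgroup.centralizer S)
    (h2 : ∀ x, IsRoot cs h x → x ∉ Ω → X x ⊓ Subgroup.centralizer S = ⊥)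
    {g : Y} (hg : g ∈ GG cs h T X) (hc : g ∈ Subgroup.centralizer S) :
    ∀ u ∈ RGD.Sup X Ω, g * u * g⁻¹ ∈ RGD.Sup X Ω := by
  set L := RGD.Sup X Ω with hL
  have hle : RGD.Sup (fun x => X x ⊓ Subgroup.centralizer S) (RGD.Pos cs h) ≤ L := by
    refine RGD.Sup_le fun x hx => ?_
    by_cases hx' : x ∈ Ω
    · exact le_trans inf_le_left (RGD.le_Sup hx')
    · rw [h2 x hx.1 hx']
      exact bot_le
  obtain ⟨u, hu, w, k, hk, hkc, v, hv, rfl⟩ := NormalForm.mem_centralizer R hS hg hc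
  have hkL : ∀ y ∈ L, k * y * k⁻¹ ∈ L := by
    suffices h3 : L ≤ L.comap (MulAut.conj k).toMonoidHom from fun y hy => h3 hy
    refine RGD.Sup_le fun x hx y hy => ?_
    change k * y * k⁻¹ ∈ L
    by_cases hy1 : y = 1
    · rw [hy1, mul_one, mul_inv_cancel]
      exact one_mem _
    have h4 := R.conj_mem hk (hΩ x hx) hy
    have h5 : rep cs h w x ∈ Ω := by
      by_contra hcon
      have h6 : k * y * k⁻¹ ∈ X (rep cs h w x) ⊓ Subgroup.centralizer S :=
        Subgroup.mem_inf.2 ⟨h4, mul_mem (mul_mem hkc (h1 x hx hy)) (inv_mem hkc)⟩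
      rw [h2 _ ((hΩ x hx).act w) hcon, Subgroup.mem_bot] at h6
      apply hy1
      have h7 : y = k⁻¹ * (k * y * k⁻¹) * k := by group
      rw [h7, h6]; group
    exact RGD.le_Sup h5 h4
  have huL := hle hu
  have hvL := hle hv
  intro y hy
  have h8 : u * k * v * y * (u * k * v)⁻¹ = u * (k * (v * y * v⁻¹) * k⁻¹) * u⁻¹ := by group
  rw [h8]
  exact mul_mem (mul_mem huL (hkL _ (mul_mem (mul_mem hvL hy) (inv_mem hvL)))) (inv_mem huL)

end Norm

/-! ### the highest root -/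

/-- the roots of grade `0` are orthogonal to the highest root -/
def orthChk (D : ChevalleyDatum) : Bool :=
  (List.range D.nroots).all fun s => decide (rt D s (node D) ≠ 0) || (OrthB D (top D) s && OrthB D 0 s)

theorem orth_G2 : orthChk chevG2 = true := by decide +kernel
theorem orth_D4 : orthChk chevD4 = true := by decide +kernel
theorem orth_F4 : orthChk chevF4 = true := by decide +kernel
theorem orth_E6 : orthChk chevE6 = true := by decide +kernel
theorem orth_E7 : orthChk chevE7 = true := by decide +kernel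
theorem orth_E8 : orthChk chevE8 = true := by decide +kernel

theorem orth_spec {D : ChevalleyDatum} (hH : HiList D) {s : ℕ} (hs : s < D.nroots) (h0 : rt D s (node D) = 0) :
    OrthB D (top D) s = true ∧ OrthB D 0 s = true := by
  have h1 : orthChk D = true := by
    simp only [HiList, List.mem_cons, List.not_mem_nil, or_false] at hH
    rcases hH with rfl | rfl | rfl | rfl | rfl | rfl
    · exact orth_G2
    · exact orth_D4
    · exact orth_F4
    · exact orth_E6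
    · exact orth_E7
    · exact orth_E8
  unfold orthChk at h1
  rw [List.all_eq_true] at h1
  have h2 := h1 s (List.mem_range.2 hs)
  rw [Bool.or_eq_true, decide_eq_true_eq, Bool.and_eq_true] at h2
  rcases h2 with h2 | h2
  · exact absurd h0 h2
  · exact h2

section Top

variable {D : ChevalleyDatum} (hH : HiList D) {K : Type u} [Field K]

/-- the `SL₂` of the highest root -/
noncomputable abbrev pt : SL2 K →* ↥(D.group K) := ph hH.inList (top_lt hH)

theorem pt_dg (c : Kˣ) : pt hH (SLTwo.dg c) = ht hH (c : K) := by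
  apply Subtype.ext
  rw [coe_ph, SLTwo.dg_eq, map_mul, phi_wel hH.inList (top_lt hH), phi_wel hH.inList (top_lt hH), ← hG_def]
  rfl

variable {l : ℕ} {M : CoxeterMatrix (Fin l)} (hp : IsType D l M) {W : Type*} [Group W] (cs : CoxeterSystem M W)

/-- the roots orthogonal to the highest root -/
def Om (hp : IsType D l M) (cs : CoxeterSystem M W) (hH : HiList D) : Set (Fin l → ℤ) :=
  {b | IsRoot cs hp.isCartan b ∧ b (nd hH hp) = 0}

/-- `ψ (SL₂(K))` centralises `⟨X b : ⟨b, θ^∨⟩ = 0⟩`. -/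
theorem pt_comm (g : SL2 K) :
    ∀ u ∈ RGD.Sup (XX D l K) (Om hp cs hH), pt hH g * u = u * pt hH g := by
  have h1 : RGD.Sup (XX D l K) (Om hp cs hH) ≤ Subgroup.centralizer ((pt (K := K) hH).range : Set ↥(D.group K)) := by
    refine RGD.Sup_le ?_
    rintro x ⟨hx, hx0⟩ u hu
    obtain ⟨s, hs, rfl⟩ := (isRoot_iff hp cs x).1 hx
    obtain ⟨t, rfl⟩ := (mem_XX hH hp hs).1 hu
    rw [Subgroup.mem_centralizer_iff]
    rintro _ ⟨g, rfl⟩
    obtain ⟨o1, o2⟩ := orth_spec hH hs hx0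
    refine (commute_of_up_lo (pt hH) (xg hH s t) (fun a => ?_) (fun a => ?_) g).eq
    · apply Subtype.ext
      rw [Subgroup.coe_mul, Subgroup.coe_mul, coe_ph, phi_up hH.inList (top_lt hH)]
      exact (xG_commute hH.inList (top_lt hH) hs o1 a t).eq
    · apply Subtype.ext
      rw [Subgroup.coe_mul, Subgroup.coe_mul, coe_ph, phi_lo hH.inList (top_lt hH), neg_top hH]
      exact (xG_commute hH.inList (nroots_pos hH.checked) hs o2 a t).eq
  exact fun u hu => Subgroup.mem_centralizer_iff.1 (h1 hu) _ ⟨g, rfl⟩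

/-- the centraliser of `h_θ(c)` -/
theorem ht_norm [Finite W] [Finite K] {c : K} (hc0 : c ≠ 0) (hc1 : c ≠ 1) (hc2 : c ^ 2 ≠ 1) {g : ↥(D.group K)}
    (hcomm : g * ht hH c = ht hH c * g) :
    ∀ u ∈ RGD.Sup (XX D l K) (Om hp cs hH), g * u * g⁻¹ ∈ RGD.Sup (XX D l K) (Om hp cs hH) := by
  obtain ⟨p, hpr, hcp⟩ : ∃ p : ℕ, p.Prime ∧ CharP K p := by
    obtain ⟨p, hcp⟩ := CharP.exists K
    exact ⟨p, CharP.char_is_prime K p, hcp⟩
  have : Fact p.Prime := ⟨hpr⟩
  have hcm : ∀ m : ℤ, m ≠ 0 → -2 ≤ m → m ≤ 2 → c ^ m ≠ 1 := by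
    intro m hm h3 h4
    have h5 : m = 1 ∨ m = -1 ∨ m = 2 ∨ m = -2 := by omega
    rcases h5 with rfl | rfl | rfl | rfl
    · rwa [zpow_one]
    · rw [zpow_neg, zpow_one]
      intro h6
      exact hc1 (inv_eq_one.1 h6)
    · exact_mod_cast hc2
    · rw [zpow_neg]
      intro h6
      exact hc2 (by exact_mod_cast inv_eq_one.1 h6)
  refine conj_mem_sup (rgd (K := K) hp cs p) (S := {ht hH c}) ?_ (fun x hx => hx.1) ?_ ?_ ?_ ?_
  · rintro _ rfl
    exact ht_mem hH hc0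
  · rintro x ⟨hx, hx0⟩ z hz
    obtain ⟨s, hs, rfl⟩ := (isRoot_iff hp cs x).1 hx
    obtain ⟨t, rfl⟩ := (mem_XX hH hp hs).1 hz
    rw [Subgroup.mem_centralizer_singleton_iff]
    have h1 := ht_mul_xg hH hc0 hs t
    have h2 : rt D s (node D) = 0 := hx0
    rw [h2, zpow_zero, one_mul] at h1
    exact h1.symm
  · intro x hx hx0
    rw [eq_bot_iff]
    intro z hzz
    obtain ⟨hz, hz'⟩ := Subgroup.mem_inf.1 hzz
    obtain ⟨s, hs, rfl⟩ := (isRoot_iff hp cs x).1 hx
    obtain ⟨t, rfl⟩ := (mem_XX hH hp hs).1 hz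
    rw [Subgroup.mem_centralizer_singleton_iff] at hz'
    have h1 := ht_mul_xg hH hc0 hs t
    rw [← hz'] at h1
    have h2 : xg hH s t = xg hH s (c ^ rt D s (node D) * t) := mul_right_cancel h1
    have h3 : t = c ^ rt D s (node D) * t := xG_injective hH.inList hs (congrArg Subtype.val h2)
    have hm : rt D s (node D) ≠ 0 := fun h3 => hx0 ⟨hx, h3⟩
    have h5 := hcm _ hm (le_rt hH hs) (rt_le hH hs)
    have h6 : t = 0 := by
      by_contra ht
      apply h5
      have h7 : (1 : K) * t = c ^ rt D s (node D) * t := by rw [one_mul]; exact h3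
      exact (mul_right_cancel₀ ht h7).symm
    rw [h6, Subgroup.mem_bot]
    apply Subtype.ext
    exact xG_zero hH.inList s
  · rw [Cfsg.Agent.KFacts.RgdRigid.GG_eq_top (G1_eq_top hp cs)]
    exact Subgroup.mem_top _
  · rw [Subgroup.mem_centralizer_singleton_iff]
    exact hcomm

/-- **The centraliser of an element of odd prime order of the long root `SL₂`.** -/
theorem norm_of_comm [Finite W] [Finite K] {q : ℕ} (hq : q.Prime) (hq2 : q ≠ 2) {ζ : K}
    (hζ : IsPrimitiveRoot ζ q) {g : SL2 K} (hg : g ^ q = 1) (hg1 : g ≠ 1) {y : ↥(D.group K)}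
    (hy : y * pt hH g = pt hH g * y) :
    ∀ u ∈ RGD.Sup (XX D l K) (Om hp cs hH), y * u * y⁻¹ ∈ RGD.Sup (XX D l K) (Om hp cs hH) := by
  obtain ⟨k, c, hcq, hc1, hk⟩ := SLTwo.exists_conj hq hq2 hζ hg hg1
  have hc2 : c ^ 2 ≠ 1 := by
    intro h3
    obtain ⟨j, hj⟩ := hq.odd_of_ne_two hq2
    rw [hj, pow_succ, pow_mul, h3, one_pow, one_mul] at hcq
    exact hc1 hcq
  set ψ := pt (K := K) hH with hψ
  -- `y' = ψ k * y * (ψ k)⁻¹` commutes with `h_θ(c)`
  have h3 : ψ k * ψ g * (ψ k)⁻¹ = ht hH (c : K) := by rw [← pt_dg, ← hk, map_mul, map_mul, map_inv]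
  have h4 : (ψ k * y * (ψ k)⁻¹) * ht hH (c : K) = ht hH (c : K) * (ψ k * y * (ψ k)⁻¹) := by
    rw [← h3]
    calc ψ k * y * (ψ k)⁻¹ * (ψ k * ψ g * (ψ k)⁻¹) = ψ k * (y * ψ g) * (ψ k)⁻¹ := by group
      _ = ψ k * (ψ g * y) * (ψ k)⁻¹ := by rw [hy]
      _ = _ := by group
  intro u hu
  have h5 := ht_norm hH hp cs c.ne_zero (fun h => hc1 (Units.ext h))
    (fun h => hc2 (Units.ext (by rw [Units.val_pow_eq_pow_val, h, Units.val_one]))) h4 u hu
  have hku : (ψ k)⁻¹ * u * ψ k = u := by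
    rw [mul_assoc, ← pt_comm hH hp cs k u hu, inv_mul_cancel_left]
  have h6 := pt_comm hH hp cs k _ h5
  have h7 : y * u * y⁻¹ = (ψ k)⁻¹ * (ψ k * y * (ψ k)⁻¹ * u * (ψ k * y * (ψ k)⁻¹)⁻¹) * ψ k := by
    calc y * u * y⁻¹ = y * ((ψ k)⁻¹ * u * ψ k) * y⁻¹ := by rw [hku]
      _ = _ := by group
  rw [h7, mul_assoc, ← h6, inv_mul_cancel_left]
  exact h5

end Top

/-! ### groups inside `D.group K` -/

/-- the coefficient at `k` -/
def ev {I : Type*} (k : I) : (I → ℤ) →+ ℤ := Pi.evalAddMonoidHom (fun _ => ℤ) k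

@[simp] theorem ev_apply {I : Type*} (k : I) (x : I → ℤ) : ev k x = x k := rfl

@[simp] theorem neg_ev_apply {I : Type*} (k : I) (x : I → ℤ) : (-ev k) x = -x k := rfl

section Over

variable {D : ChevalleyDatum} (hH : HiList D) {K : Type u} [Field K]
  {l : ℕ} {M : CoxeterMatrix (Fin l)} (hp : IsType D l M) {W : Type*} [Group W] (cs : CoxeterSystem M W)
variable {I' W' H : Type*} [Fintype I'] [DecidableEq I'] [Group W'] [Group H] {M' : CoxeterMatrix I'}
  {cs' : CoxeterSystem M' W'} {A' : I' → I' → ℤ} {h' : IsCartan M' A'} {p' : ℕ} {T' : Subgroup H} {n' : I' → H}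
  {X' : (I' → ℤ) → Subgroup H}

/-- **The centraliser in a subgroup** `H` of `D.group K` with compatible root group datum. -/
theorem norm_zero [Finite W] [Finite K] [Finite W'] (R' : RGD cs' h' p' T' n' X')
    (hG' : GG cs' h' T' X' = ⊤) {φ : H →* ↥(D.group K)} {k' : I'}
    (hc : Over.Comp cs hp.isCartan (TT D K) (XX D l K) cs' h' T' X' φ (ev (nd hH hp)) (ev k'))
    (hc' : Over.Comp cs hp.isCartan (TT D K) (XX D l K) cs' h' T' X' φ (-ev (nd hH hp)) (-ev k'))
    (hX : ∀ a, IsRoot cs' h' a → a k' = 0 → (X' a).map φ ≤ RGD.Sup (XX D l K) (Om hp cs hH))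
    {q : ℕ} (hq : q.Prime) (hq2 : q ≠ 2) {ζ : K} (hζ : IsPrimitiveRoot ζ q)
    {g : SL2 K} (hg : g ^ q = 1) (hg1 : g ≠ 1) {x : H} (hx : φ x = pt hH g) {y : H} (hy : y * x = x * y) :
    ∀ u ∈ RGD.Sup X' {a | IsRoot cs' h' a ∧ a k' = 0}, y * u * y⁻¹ ∈
      RGD.Sup X' {a | IsRoot cs' h' a ∧ a k' = 0} := by
  obtain ⟨p, hpr, hcp⟩ : ∃ p : ℕ, p.Prime ∧ CharP K p := by
    obtain ⟨p, hcp⟩ := CharP.exists K
    exact ⟨p, CharP.char_is_prime K p, hcp⟩
  have : Fact p.Prime := ⟨hpr⟩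
  have h1 : φ y * pt hH g = pt hH g * φ y := by rw [← hx, ← map_mul, ← map_mul, hy]
  have h3 := norm_of_comm hH hp cs hq hq2 hζ hg hg1 h1
  refine Over.conj_mem (rgd (K := K) hp cs p) R' hc hc' (fun i => ?_) hG'
    (K := RGD.Sup (XX D l K) (Om hp cs hH)) ?_ ?_ hX h3
  · rw [ev_apply]
    exact sr_nonneg i k'
  · exact RGD.Sup_le fun b hb => X_le_PS ⟨hb.1, by rw [ev_apply, hb.2]⟩
  · exact RGD.Sup_le fun b hb => X_le_PS ⟨hb.1, by rw [neg_ev_apply, hb.2, _root_.neg_zero]⟩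

end Over

end Cfsg.Agent.H788.NB
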