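import Cfsg.Agent.H646.NB.Cyclic
import Cfsg.Agent.H732.DegRee
import Cfsg.Agent.H167.HasStLie
import Cfsg.Agent.H504.ZerosSt
import Cfsg.Agent.H368.NB.Sq
import Cfsg.Agent.H7.NBpComp
import Cfsg.Agent.H718.NBGen
import Cfsg.Agent.S1159

/-!
# Nonprincipal `p`-blocks: the small Ree groups (helper788, S5003)
-/

set_option autoImplicit false

namespace Cfsg.Agent.H788.NB

open Cfsg Cfsg.Agent.H7.NBp Cfsg.Agent.H718.NBIH Subgroup Cfsg.Agent

/-- an element of order the `p`-part of the order gives cyclic Sylow `p`-subgroups -/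
theorem isCyclic_sylow {G : Type*} [Group G] [Finite G] {p : ℕ} [hp : Fact p.Prime] {g : G}
    (hg : orderOf g = p ^ (Nat.card G).factorization p) (P : Sylow p G) : IsCyclic ↥(P : Subgroup G) := by
  have hz : IsPGroup p (zpowers g) := IsPGroup.of_card (by rw [Nat.card_zpowers, hg])
  obtain ⟨Q, hQ⟩ := hz.exists_le_sylow
  have hQc : (Q : Subgroup G) = zpowers g := by
    refine (Subgroup.eq_of_le_of_card_ge hQ ?_).symm
    rw [Q.card_eq_multiplicity, Nat.card_zpowers, hg]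
  have h1 : IsCyclic ↥(Q : Subgroup G) := by rw [hQc]; infer_instance
  exact isCyclic_of_surjective (Q.equiv P) (Q.equiv P).surjective

/-- the factor divisible by `p` takes the whole power -/
theorem strip {p a c A B C D : ℕ} (hp : p.Prime) (h : p ^ a ∣ c * (A * (B * (C * D)))) (hc : ¬ p ∣ c)
    (h1 : ¬ (p ∣ A ∧ p ∣ B)) (h2 : ¬ (p ∣ A ∧ p ∣ C)) (h3 : ¬ (p ∣ A ∧ p ∣ D)) (h4 : ¬ (p ∣ B ∧ p ∣ C))
    (h5 : ¬ (p ∣ B ∧ p ∣ D)) (h6 : ¬ (p ∣ C ∧ p ∣ D)) : p ^ a ∣ A ∨ p ^ a ∣ B ∨ p ^ a ∣ C ∨ p ^ a ∣ D := by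
  have cop : ∀ x : ℕ, ¬ p ∣ x → (p ^ a).Coprime x := fun x hx =>
    Nat.Coprime.pow_left _ ((Nat.Prime.coprime_iff_not_dvd hp).2 hx)
  have h7 := (cop c hc).dvd_of_dvd_mul_left h
  by_cases hA : p ∣ A
  · left
    have hB : ¬ p ∣ B := fun hB => h1 ⟨hA, hB⟩
    have hC : ¬ p ∣ C := fun hC => h2 ⟨hA, hC⟩
    have hD : ¬ p ∣ D := fun hD => h3 ⟨hA, hD⟩
    exact (Nat.Coprime.mul_right (cop B hB) (Nat.Coprime.mul_right (cop C hC) (cop D hD))).dvd_of_dvd_mul_right h7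
  have h8 := (cop A hA).dvd_of_dvd_mul_left h7
  by_cases hB : p ∣ B
  · right; left
    have hC : ¬ p ∣ C := fun hC => h4 ⟨hB, hC⟩
    have hD : ¬ p ∣ D := fun hD => h5 ⟨hB, hD⟩
    exact (Nat.Coprime.mul_right (cop C hC) (cop D hD)).dvd_of_dvd_mul_right h8
  have h9 := (cop B hB).dvd_of_dvd_mul_left h8
  by_cases hC : p ∣ C
  · right; right; left
    have hD : ¬ p ∣ D := fun hD => h6 ⟨hC, hD⟩
    exact (cop D hD).dvd_of_dvd_mul_right h9
  · right; right; right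
    exact (cop C hC).dvd_of_dvd_mul_left h9

/-- **`²G₂(q)`** -/
theorem nb_ree {p : ℕ} [hpf : Fact p.Prime] (h2 : p ≠ 2) (S : Type) [Group S] [Finite S] [hs : IsSimpleGroup S]
    (h : Lie.IsoRee S) (_ih : IH p (Nat.card S)) : NB p S := by
  have hp := hpf.out
  by_cases hd : p ∣ Nat.card S
  swap
  · exact NB.of_not_dvd hd
  by_cases h3 : p = 3
  · subst h3
    have hl : IsLieTypeChar 3 S := by
      unfold IsLieTypeChar
      simp only [h, and_true]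
      tauto
    exact H368.NBSq.NB.of_hasDZ (H504.Zeros.hasDZ_of_hasSt (H167.StChar.hasSt_of_lie hp hl)) hd
  have him : H33.IM p S := H732.DegRee.im S h hs hd
  obtain ⟨K, _, _, m, hm, hK, ⟨e⟩⟩ := h
  have hfin : Finite ↥(Cfsg.Lie.twistedG2 K (3 ^ m)) := Finite.of_equiv S e.toEquiv
  obtain ⟨P⟩ : Nonempty (Sylow p S) := inferInstance
  refine H646.NBCyclic.NB.of_cyclic_IM him P ?_
  -- an element of order `p ^ a`
  have hcard : Nat.card S = (3 ^ (2 * m + 1)) ^ 3 * (3 ^ (2 * m + 1) - 1) * ((3 ^ (2 * m + 1)) ^ 3 + 1) := by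
    rw [Nat.card_congr e.toEquiv, Cfsg.Agent.LieRecognition.ReeFinal.card hK]
  obtain ⟨q, hq⟩ : ∃ q, q = 3 ^ (2 * m + 1) := ⟨_, rfl⟩
  obtain ⟨r, hr⟩ : ∃ r, r = 3 ^ (m + 1) := ⟨_, rfl⟩
  have hr2 : r ^ 2 = 3 * q := by rw [hr, hq, ← pow_mul]; ring
  have hrq : r ≤ q := by rw [hq, hr]; exact Nat.pow_le_pow_right (by norm_num) (by omega)
  have hq1 : 1 ≤ q := by rw [hq]; exact Nat.one_le_pow _ _ (by norm_num)
  have hq3 : ¬ p ∣ q := by
    intro h
    rw [hq] at h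
    exact h3 ((Nat.prime_dvd_prime_iff_eq hp Nat.prime_three).1 (hp.dvd_of_dvd_pow h))
  have hr3 : ¬ p ∣ r := by
    intro h
    rw [hr] at h
    exact h3 ((Nat.prime_dvd_prime_iff_eq hp Nat.prime_three).1 (hp.dvd_of_dvd_pow h))
  have hp2 : ¬ p ∣ 2 := fun h => h2 ((Nat.prime_dvd_prime_iff_eq hp Nat.prime_two).1 h)
  have hp3 : ¬ p ∣ 3 := fun h => h3 ((Nat.prime_dvd_prime_iff_eq hp Nat.prime_three).1 h)
  have hodd : q % 4 = 3 := by
    rw [hq, pow_succ, pow_mul, Nat.mul_mod, Nat.pow_mod]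
    norm_num
  obtain ⟨D, hD⟩ : ∃ D, D = q + r + 1 := ⟨_, rfl⟩
  obtain ⟨C, hC⟩ : ∃ C, C = q - r + 1 := ⟨_, rfl⟩
  obtain ⟨B, hB⟩ : ∃ B, B = (q + 1) / 2 := ⟨_, rfl⟩
  obtain ⟨A, hA⟩ : ∃ A, A = q - 1 := ⟨_, rfl⟩
  have hB2 : 2 * B = q + 1 := by omega
  have e1 : q ^ 3 * (q - 1) * (q ^ 3 + 1) = 2 * q ^ 3 * (A * (B * (C * D))) := by
    have e2 : q ^ 3 + 1 = (2 * B) * (C * D) := by
      rw [hB2, hC, hD]
      zify [hrq]
      have hr2' : (r : ℤ) ^ 2 = 3 * q := by exact_mod_cast hr2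
      linear_combination (-((q : ℤ) + 1)) * hr2' * (-1)
    rw [e2, ← hA]; ring
  have hdv : p ^ (Nat.card S).factorization p ∣ 2 * q ^ 3 * (A * (B * (C * D))) := by
    rw [← e1, hq, ← hcard]
    exact Nat.ordProj_dvd _ _
  have hc : ¬ p ∣ 2 * q ^ 3 := by
    intro h
    rcases hp.dvd_mul.1 h with h | h
    · exact hp2 h
    · exact hq3 (hp.dvd_of_dvd_pow h)
  have hCD : C * D = q ^ 2 - q + 1 := by
    have h0 : q ≤ q ^ 2 := Nat.le_self_pow (by norm_num) q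
    rw [hC, hD]
    zify [hrq, h0]
    have hr2' : (r : ℤ) ^ 2 = 3 * q := by exact_mod_cast hr2
    linear_combination (-1) * hr2'
  have key1 : ∀ x : ℕ, p ∣ A → x ∣ C * D → ¬ p ∣ x := by
    intro x h hx h'
    have h5 : p ∣ q ^ 2 - q + 1 := by rw [← hCD]; exact h'.trans hx
    have h6 : q ^ 2 - q = q * (q - 1) := by rw [Nat.mul_sub, mul_one, pow_two]
    rw [h6, ← hA] at h5
    exact hp.one_lt.ne' (Nat.dvd_one.1 ((Nat.dvd_add_right (h.mul_left q)).1 h5))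
  have key2 : ∀ x : ℕ, p ∣ B → x ∣ C * D → ¬ p ∣ x := by
    intro x h hx h'
    have h5 : p ∣ q ^ 2 - q + 1 := by rw [← hCD]; exact h'.trans hx
    have h6 : p ∣ q + 1 := by rw [← hB2]; exact h.mul_left 2
    have h0 : q ≤ q ^ 2 := Nat.le_self_pow (by norm_num) q
    have h7 : (q + 1) * (q + 1) = (q ^ 2 - q + 1) + 3 * q := by
      zify [h0]; ring
    have h8 : p ∣ 3 * q := by
      have h9 : p ∣ (q ^ 2 - q + 1) + 3 * q := by rw [← h7]; exact h6.mul_left _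
      exact (Nat.dvd_add_right h5).1 h9
    rcases hp.dvd_mul.1 h8 with h9 | h9
    · exact hp3 h9
    · exact hq3 h9
  have hex : ∃ g : S, orderOf g = p ^ (Nat.card S).factorization p := by
    have h7 := strip hp hdv hc ?_ (fun h => key1 C h.1 (dvd_mul_right _ _) h.2)
      (fun h => key1 D h.1 (dvd_mul_left _ _) h.2) (fun h => key2 C h.1 (dvd_mul_right _ _) h.2)
      (fun h => key2 D h.1 (dvd_mul_left _ _) h.2) ?_
    · obtain ⟨g, hg⟩ := (Cfsg.Agent.S1159.result hm hK (p ^ (Nat.card S).factorization p)).2 (by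
        rw [← hq, ← hr, ← hA, ← hB, ← hC, ← hD]
        tauto)
      exact ⟨e.symm g, by rw [MulEquiv.orderOf_eq, hg]⟩
    · rintro ⟨h8, h9⟩
      have h10 : p ∣ 2 * B := h9.mul_left 2
      rw [hB2] at h10
      have h11 : q + 1 = A + 2 := by omega
      rw [h11] at h10
      exact hp2 ((Nat.dvd_add_right h8).1 h10)
    · rintro ⟨h8, h9⟩
      have h10 : D = C + 2 * r := by omega
      rw [h10] at h9
      rcases hp.dvd_mul.1 ((Nat.dvd_add_right h8).1 h9) with h11 | h11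
      · exact hp2 h11
      · exact hr3 h11
  obtain ⟨g, hg⟩ := hex
  exact isCyclic_sylow hg P

end Cfsg.Agent.H788.NB
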